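import Groth.Agent.DualLib.DualizingCoherent
import Groth.Agent.DualLib.OmegaStalk
import Groth.Agent.Dual22Lib.GorInvertible
import Groth.Agent.SerreDual.Curve
import Groth.Agent.CurveRR24.Dual

/-!
# The dualizing module of a Gorenstein curve is invertible
-/

set_option autoImplicit false
set_option backward.isDefEq.respectTransparency false
set_option backward.defeqAttrib.useBackward true
set_option linter.style.haveILetI false
set_option synthInstance.maxHeartbeats 100000
set_option maxHeartbeats 1000000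

universe u

open CategoryTheory CategoryTheory.Limits DerivedCategory AlgebraicGeometry Opposite TopologicalSpace
open Groth.Agent.Coherent Groth.Agent.PicLib Groth.Agent.AmpleLib

attribute [local instance] HasDerivedCategory.standard

namespace Groth.Agent.CurveGor3

variable (k : Type u) [Field k] (X : Scheme.{u}) [X.Over (Spec (CommRingCat.of k))]
  [IsProper (X ↘ Spec (CommRingCat.of k))]
  [DCoh.HasRpush (X ↘ Spec (CommRingCat.of k))]
  [∀ (U V : Scheme.{u}) (j : U ⟶ V) [IsOpenImmersion j], PreservesFiniteLimits (Scheme.Modules.restrictFunctor j)]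
  [∀ (S : CommRingCat.{u}), PreservesFiniteLimits (tilde.functor S)]

theorem isDualizingSch_repObj {A : DCoh.D X}
    (hA : Dual22Lib.RepLib.RepObj (X ↘ Spec (CommRingCat.of k)) (DualLib.DualCoh.PS k) A) :
    Dual2.IsDualizingSch X A := by
  haveI : IsNoetherian (Spec (CommRingCat.of k)) := {}
  obtain ⟨eR⟩ := DualLib.ShriekLocal.nonempty_structure_tilde k
  let eO : DualLib.DualCoh.PS k ≅ DCoh.inD (Spec (CommRingCat.of k)) (Coh.structureModule (Spec (CommRingCat.of k))) :=
    (singleFunctor _ 0).mapIso (DQCoh.topIso (CommRingCat.of k) ≪≫ tildeSelf)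
  have hk : Dual.IsDualizing k (Dual.inD k k) := by
    haveI : Injective (ModuleCat.of k k) :=
      haveI : Module.Injective k k := Module.Baer.injective fun I g => by
        rcases Ideal.eq_bot_or_top I with rfl | rfl
        · exact ⟨0, fun x hx => by
            rw [LinearMap.zero_apply, show (⟨x, hx⟩ : (⊥ : Ideal k)) = 0 from Subsingleton.elim _ _, map_zero]⟩
        · exact ⟨g.comp (Submodule.topEquiv.symm : k ≃ₗ[k] (⊤ : Ideal k)).toLinearMap, fun x hx => rfl⟩
      (Module.injective_iff_injective_object k k).1 this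
    exact DualLib.isDualizing_self 1 inferInstance
  have hQ : Dual2.IsDualizingSch (Spec (CommRingCat.of k)) (DualLib.DualCoh.PS k) :=
    Dual22Lib.isDualizingSch_of_cover (DualLib.DualCoh.PS k) PUnit (fun _ => k) (fun _ => 𝟙 _)
      (fun x => ⟨⟨⟩, ⟨x, rfl⟩⟩) fun _ => ⟨_, hk, ⟨(DCoh.restrictD (𝟙 (Spec (CommRingCat.of k)))).mapIso eO ≪≫
        Dual22Lib.restrictZeroIso _ ≪≫ eR.symm⟩⟩
  exact DualLib.ChartApps.isDualizingSch_rep (X ↘ Spec (CommRingCat.of k)) hA
    (fun i => ((DualLib.DualCoh.isCohD_PS k) i).1) hQ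

variable [IsIntegral X] {k X}

/-- The dualizing module of a Gorenstein integral proper curve with `h⁰(O) = 1` is invertible. -/
theorem isInvertible_dualizing' (hdim : topologicalKrullDim X = 1)
    (h0 : Module.finrank k (Coh.HH X (Coh.structureModule X) 0) = 1)
    (hgor : ∀ x : X, LocCoh.IsGorensteinLocalRing (X.presheaf.stalk x)) {ω : X.Modules}
    {t : Coh.HH X ω 1 →ₗ[k] k} (hω : Coh.IsQCoh ω) (hrep : ∀ F : X.Modules, Coh.IsQCoh F → SerreDual.Rep t F) :
    PicF.IsInvertible ω := by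
  haveI := EulerLib.isNoetherian_of_proper (k := k) (X := X)
  haveI := hω
  obtain ⟨A, hA⟩ := Dual22Lib.RepLib.exists_repObj (X ↘ Spec (CommRingCat.of k)) (DualLib.DualCoh.PS k)
  obtain ⟨θ, hθ⟩ := DualLib.DualCoh.exists_mono_of_rep k X (d := 1) hdim.le hA t hrep
  have hI := Dual22Lib.invertible_of_gorenstein (isDualizingSch_repObj k X hA) hgor
  -- `ω` is nonzero on every nonempty open
  obtain ⟨M, j, O, hM, hηO, hbij⟩ := CurveRR24.exists_invertible_to_dualizing hrep hdim hω
  let W := DCoh.HD (A⟦(-((1 : ℕ) : ℤ))⟧) 0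
  have hWinv : PicF.IsInvertible W := by
    intro x
    obtain ⟨U, n, hxU, ⟨eU⟩⟩ := hI x
    refine ⟨U, hxU, ?_⟩
    let R := Scheme.Modules.restrictFunctor U.ι
    let e1 : W.restrict U.ι ≅ R.obj (DCoh.HD A (-1)) :=
      R.mapIso (((homologyFunctor X.Modules 0).shiftIso (-((1 : ℕ) : ℤ)) 0 (-1) (by omega)).app A)
    let e2 : R.obj (DCoh.HD A (-1)) ≅
        (homologyFunctor (U : Scheme.{u}).Modules (-1)).obj
          (((singleFunctor _ 0).obj (Coh.structureModule (U : Scheme.{u})))⟦n⟧) :=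
      (DCat.SuppOpen.hdMapIso R A (-1)).symm ≪≫ (homologyFunctor _ (-1)).mapIso eU
    let e3 := e1 ≪≫ e2 ≪≫ ((homologyFunctor (U : Scheme.{u}).Modules 0).shiftIso n (-1) (n + -1) rfl).app _
    by_cases hn : n + -1 = 0
    · rw [hn] at e3
      exact ⟨e3 ≪≫ (singleFunctorCompHomologyFunctorIso _ 0).app _⟩
    exfalso
    have hz : IsZero (W.restrict U.ι) := by
      refine IsZero.of_iso ?_ e3
      rcases lt_or_gt_of_ne hn with h | h
      · exact isZero_of_isGE _ 0 _ h
      · exact isZero_of_isLE _ 0 _ h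
    -- but `M ↪ ω ↪ W` is nonzero near the generic point
    obtain ⟨U₁, hη₁, g, hg⟩ := exists_isGen hM (genericPoint X)
    haveI hmj : Mono j := SerreDual.mono_of_ne_zero hrep hdim.le hω hM j fun hj => by
      have hb := (hbij (O ⊓ U₁) inf_le_left).1
      subst hj
      have h1 : resM M (inf_le_right : O ⊓ U₁ ≤ U₁) g = 0 := hb (by rfl)
      have h2 : (1 : Γ(X, O ⊓ U₁)) = 0 := (hg (O ⊓ U₁) inf_le_right).1 (by simp [h1])
      haveI : Nonempty ↥(O ⊓ U₁ : X.Opens) := ⟨⟨_, hηO, hη₁⟩⟩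
      exact one_ne_zero h2
    have hηU : genericPoint X ∈ U := ((genericPoint_spec X).mem_open_set_iff U.2).2 ⟨x, trivial, hxU⟩
    let V : (U : Scheme.{u}).Opens := U.ι ⁻¹ᵁ U₁
    haveI : Subsingleton Γ(W, U.ι ''ᵁ V) := by
      refine subsingleton_of_forall_eq 0 fun a => ?_
      have h := congrArg (fun φ => Scheme.Modules.Hom.app φ V) (hz.eq_of_src (𝟙 _) 0)
      exact congr($h a)
    have hle : U.ι ''ᵁ V ≤ U₁ := U.ι.image_preimage_le U₁ |>.trans le_rfl
    have hsec : resM M hle g = 0 := by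
      refine app_injective_of_mono (j ≫ θ) _ ?_
      exact Subsingleton.elim _ _
    have h2 : (1 : Γ(X, U.ι ''ᵁ V)) = 0 := (hg _ hle).1 (by simp [hsec])
    haveI : Nonempty ↥(U.ι ''ᵁ V) := ⟨⟨genericPoint X, ⟨⟨_, hηU⟩, hη₁, rfl⟩⟩⟩
    exact one_ne_zero h2
  have hWc : Coh.IsCoh W := CurveRR24.isCoh_of_isInvertible k hWinv
  have hW0 : ¬ IsZero W := fun h => by
    obtain ⟨U, hU, g, hg⟩ := exists_isGen hWinv (genericPoint X)
    haveI : Subsingleton Γ(W, U) := subsingleton_of_forall_eq 0 fun a => by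
      have h' := congrArg (fun φ => Scheme.Modules.Hom.app φ U) (h.eq_of_src (𝟙 _) 0)
      exact congr($h' a)
    have h2 : (1 : Γ(X, U)) = 0 := (hg U le_rfl).1 (Subsingleton.elim _ _)
    haveI : Nonempty ↥U := ⟨⟨_, hU⟩⟩
    exact one_ne_zero h2
  have hnt := DualLib.DualCoh.not_subsingleton_of_rep k X (d := 1) hdim.le hA hW0
  obtain ⟨hfin, hrank⟩ := SerreDual.finrank_hom_eq_h1 hrep hWc
  haveI := hfin
  haveI := CurveRR24.finite_HH_of_isCoh k hWc 1
  haveI : Nontrivial (Coh.HH X W 1) := not_subsingleton_iff_nontrivial.1 hnt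
  haveI : Nontrivial (W ⟶ ω) := Module.nontrivial_of_finrank_pos (R := k) (hrank ▸ Module.finrank_pos)
  obtain ⟨φ, hφ⟩ := exists_ne (0 : W ⟶ ω)
  -- endomorphisms of `W` are scalars
  obtain ⟨N, hN, ⟨e⟩⟩ := CurveRR24.exists_inverse k hWinv
  have hend : φ ≫ θ ≠ 0 := fun h => hφ (zero_of_comp_mono θ h)
  let F : (W ⟶ W) →ₗ[k] Coh.HH X (Coh.structureModule X) 0 :=
    ((Linear.homCongr k e e).trans (SerreDual.homUnitHH k _)).toLinearMap ∘ₗ SerreDual.tensorRightHom k W W N
  have hF : Function.Injective F := fun x y h => SerreDual.tensorRightHom_injective k W W hN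
    (((Linear.homCongr k e e).trans (SerreDual.homUnitHH k _)).injective h)
  have hid : (𝟙 W : W ⟶ W) ≠ 0 := fun h => hW0 ((IsZero.iff_id_eq_zero _).2 h)
  obtain ⟨c, hc⟩ := (finrank_eq_one_iff_of_nonzero' (F (𝟙 W)) ((map_ne_zero_iff _ hF).2 hid)).1 h0 (F (φ ≫ θ))
  rw [← map_smul] at hc
  have hc' := hF hc
  have hc0 : c ≠ 0 := fun h => hend (by rw [← hc', h, zero_smul])
  haveI : Epi θ := epi_of_epi_fac (f := c⁻¹ • φ) (show (c⁻¹ • φ) ≫ θ = 𝟙 W by
    rw [Linear.smul_comp, ← hc', smul_smul, inv_mul_cancel₀ hc0, one_smul])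
  haveI : IsIso θ := isIso_of_mono_of_epi θ
  exact fun y => (hWinv y).imp fun U hU => ⟨hU.1, hU.2.map fun e' =>
    (Scheme.Modules.restrictFunctor U.ι).mapIso (asIso θ) ≪≫ e'⟩

end Groth.Agent.CurveGor3

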